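import Groth.Agent.NefTest.Basic

/-! Nonnegativity of degrees on one-dimensional proper schemes from their integral curves. -/

noncomputable section

set_option linter.style.haveILetI false
set_option backward.isDefEq.respectTransparency false
set_option backward.isDefEq.respectTransparency.types false

universe u

open CategoryTheory CategoryTheory.Limits AlgebraicGeometry TopologicalSpace

namespace Groth.Agent.NefTest

variable (k : Type u) [Field k] {X : Scheme.{u}} [X.Over (Spec (CommRingCat.of k))]
  [IsProper (X ↘ Spec (CommRingCat.of k))]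

theorem sym_nonneg_of_curves {L : X.Modules} (hL : PicF.IsInvertible L)
    (h : ∀ (Z : Scheme.{u}) (i : Z ⟶ X) [IsClosedImmersion i] [IsIntegral Z], topologicalKrullDim Z = 1 →
      0 ≤ IntSym.sym k [L] ((Coh.push i).obj (Coh.structureModule Z)))
    {M : X.Modules} (hM : Coh.IsCoh M) (hd : topologicalKrullDim ↥(CohB1.support M) ≤ ((1 : ℕ) : WithBot ℕ∞)) :
    0 ≤ IntSym.sym k [L] M := by
  haveI := CurveCohLib.isNoetherian_of_proper (k := k) (X := X)
  have hA := IntSym.additive_sym k (l := [L]) (List.forall_mem_singleton.2 hL)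
  have hsmall : ∀ G : X.Modules, Coh.IsCoh G → HilbPoly.DimLT G 1 → IntSym.sym k [L] G = 0 := fun G hG hdG =>
    IntSym.sym_eq_zero k (List.forall_mem_singleton.2 hL) hG hdG
  induction QCoh.filt_of_isCoh hM with
  | @zero N h0 => exact (hA.zero_of_isZero h0).ge
  | @step N M' φ _ _ hNc hMc hex ih =>
    obtain ⟨Z, i, hi, hZ, I, ι, hι, hI, hI0, ⟨e⟩⟩ := hex
    haveI := hi; haveI := hZ; haveI := hι
    have hc := QCoh.isCoh_cokernel hNc.1 hMc φ
    have hsN : CohB1.support N ⊆ CohB1.support M' := QCoh.mem_support_of_mono hNc.1 hMc.1 φ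
    have h1 := hA.add (ShortComplex.mk φ (cokernel.π φ) (cokernel.condition φ))
      (.mk' (ShortComplex.exact_of_g_is_cokernel _ (cokernelIsCokernel φ)) ‹_› inferInstance) hNc hMc hc
    change IntSym.sym k [L] M' = IntSym.sym k [L] N + IntSym.sym k [L] (cokernel φ) at h1
    rw [h1, IntSym.sym_iso k (List.forall_mem_singleton.2 hL) e]
    refine add_nonneg (ih hNc ((H23.TopDim.dim_le_dim_of_subset hsN).trans hd)) ?_
    set ξ := i (genericPoint Z) with hξdef
    have hr : Set.range i = closure {ξ} := QCoh.range_eq_closure i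
    have hsI : CohB1.support ((Coh.push i).obj I) = closure {ξ} := QCoh.support_push_ideal i ι hI hI0
    have hξd : topologicalKrullDim ↥(closure ({ξ} : Set X)) ≤ ((1 : ℕ) : WithBot ℕ∞) := by
      rw [← hsI, ← QCoh.support_iso e hc.1]
      exact (H23.TopDim.dim_le_dim_of_subset (QCoh.support_of_epi hMc.1 hc.1 (cokernel.π φ))).trans hd
    have hO : Coh.IsCoh ((Coh.push i).obj (Coh.structureModule Z)) := QCoh.isCoh_push_structure i
    have hIc : Coh.IsCoh ((Coh.push i).obj I) := QCoh.isCoh_of_mono (e.inv) hc (QCoh.isQCoh_pushforward i hI)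
    haveI : Mono ((Coh.push i).map ι) := Functor.map_mono _ ι
    have hK := QCoh.isCoh_cokernel hIc.1 hO ((Coh.push i).map ι)
    have hKd : HilbPoly.DimLT (cokernel ((Coh.push i).map ι)) 1 :=
      HilbPoly.dim_lt_closure hξd (QCoh.isClosed_support_of_isFT hK.1 hK.2)
        ((QCoh.support_of_epi hO.1 hK.1 (cokernel.π _)).trans
          (hr ▸ QCoh.support_push_subset i QCoh.isQCoh_structureModule))
        (QCoh.mem_support_push_ideal i ι hI hI0).2
    have h2 := hA.add (ShortComplex.mk ((Coh.push i).map ι) (cokernel.π _) (cokernel.condition _))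
      (.mk' (ShortComplex.exact_of_g_is_cokernel _ (cokernelIsCokernel _)) ‹_› inferInstance) hIc hO hK
    change IntSym.sym k [L] ((Coh.push i).obj (Coh.structureModule Z)) = IntSym.sym k [L] ((Coh.push i).obj I) +
      IntSym.sym k [L] (cokernel ((Coh.push i).map ι)) at h2
    rw [hsmall _ hK hKd, add_zero] at h2
    rw [← h2]
    rcases hξd.lt_or_eq with hlt | heq
    · exact (hsmall _ hO (HilbPoly.dimLT_of_subset (hr ▸ QCoh.support_push_subset i QCoh.isQCoh_structureModule) hlt)).ge
    · exact h Z i ((IntSym.dim_eq_of_range i hr).trans heq)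

end Groth.Agent.NefTest
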