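import Groth.Agent.IntSym.CurveMap
import Groth.Agent.IntSym.Bridge
import Groth.Agent.S1585
import Groth.Agent.S9800
import Groth.Agent.S4717
import Groth.Agent.MorLib.GeomFibre

/-! The curve test for nefness of bundles: passing to arbitrary integral curves. -/

noncomputable section

set_option linter.style.haveILetI false
set_option linter.unusedSectionVars false
set_option backward.isDefEq.respectTransparency false
set_option backward.isDefEq.respectTransparency.types false

universe u

open CategoryTheory CategoryTheory.Limits AlgebraicGeometry TopologicalSpace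
open Groth.Agent.H23.PicMul

namespace Groth.Agent.NefTest

variable (k : Type u) [Field k]

/-- The curve test of nefness. -/
def Nef (X : Scheme.{u}) [X.Over (Spec (CommRingCat.of k))] (E : X.Modules) : Prop :=
  ∀ (C : Scheme.{u}) [C.Over (Spec (CommRingCat.of k))] [IsProper (C ↘ (Spec (CommRingCat.of k)))] [IsIntegral C],
    topologicalKrullDim C = 1 → (∀ x : C, IsRegularLocalRing (C.presheaf.stalk x)) →
    ∀ (g : C ⟶ X), g ≫ (X ↘ (Spec (CommRingCat.of k))) = C ↘ (Spec (CommRingCat.of k)) →
    ∀ (M : C.Modules), PicF.IsInvertible M →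
    ∀ (q : (Scheme.Modules.pullback g).obj E ⟶ M), Epi q → 0 ≤ Curv2.deg k C M 1

theorem deg_eq_sym {C : Scheme.{u}} [C.Over (Spec (CommRingCat.of k))]
    [IsProper (C ↘ Spec (CommRingCat.of k))] (M : C.Modules) :
    Curv2.deg k C M 1 = IntSym.sym k [M] (Coh.structureModule C) := by
  rw [IntSym.sym_singleton]
  rw [show Curv2.euler k C (CohB1.tensorMod (Coh.structureModule C) M) = Curv2.euler k C M from
    CurveCohLib.euler_congr (k := k) (CurveTensor.structureTensorIso M)]
  simp [Curv2.deg]

/-- An integral proper curve is the finite surjective image of a regular one. -/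
theorem exists_regular_curve (Z : Scheme.{u}) [Z.Over (Spec (CommRingCat.of k))]
    [IsProper (Z ↘ Spec (CommRingCat.of k))] [IsIntegral Z] (hZ : topologicalKrullDim Z = 1) :
    ∃ (Z' : Scheme.{u}) (_ : Z'.Over (Spec (CommRingCat.of k))) (_ : IsProper (Z' ↘ Spec (CommRingCat.of k)))
      (_ : IsIntegral Z') (h : Z' ⟶ Z) (_ : IsFinite h),
      h ≫ (Z ↘ Spec (CommRingCat.of k)) = Z' ↘ Spec (CommRingCat.of k) ∧ topologicalKrullDim Z' = 1 ∧
      (∀ x : Z', IsRegularLocalRing (Z'.presheaf.stalk x)) ∧ Surjective h := by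
  haveI := CurveCohLib.isNoetherian_of_proper (k := k) (X := Z)
  obtain ⟨hfin, hdom, -, hint, hnor⟩ := S1585.result k Z
  haveI := hfin; haveI := hdom; haveI := hint
  letI : (Curv2.normalization Z).Over (Spec (CommRingCat.of k)) :=
    ⟨Curv2.normalizationι Z ≫ (Z ↘ Spec (CommRingCat.of k))⟩
  haveI hp : IsProper ((Curv2.normalization Z) ↘ Spec (CommRingCat.of k)) :=
    show IsProper (Curv2.normalizationι Z ≫ (Z ↘ Spec (CommRingCat.of k))) from inferInstance
  haveI := CurveCohLib.isNoetherian_of_proper (k := k) (X := Curv2.normalization Z)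
  have hsurj : Function.Surjective (Curv2.normalizationι Z) := by
    intro z
    exact ((Curv2.normalizationι Z).isClosedMap.isClosed_range.closure_eq ▸
      (Curv2.normalizationι Z).denseRange z : z ∈ Set.range (Curv2.normalizationι Z))
  have hd : topologicalKrullDim (Curv2.normalization Z) = 1 :=
    ((S4717.result (Curv2.normalizationι Z)).2 hsurj).trans hZ
  exact ⟨Curv2.normalization Z, _, hp, hint, Curv2.normalizationι Z, hfin, rfl, hd,
    fun x => S9800.result _ hnor hd.le x, ⟨hsurj⟩⟩

/-- Degree along a finite surjection of integral curves. -/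
theorem sym_finite_pullback {Z Z' : Scheme.{u}} [Z.Over (Spec (CommRingCat.of k))]
    [Z'.Over (Spec (CommRingCat.of k))] [IsProper (Z ↘ Spec (CommRingCat.of k))]
    [IsProper (Z' ↘ Spec (CommRingCat.of k))] [IsIntegral Z] [IsIntegral Z'] (h : Z' ⟶ Z) [IsFinite h] [Surjective h]
    (hh : h ≫ (Z ↘ Spec (CommRingCat.of k)) = Z' ↘ Spec (CommRingCat.of k))
    (hd' : topologicalKrullDim Z' = 1) {M : Z.Modules} (hM : PicF.IsInvertible M) :
    IntSym.sym k [(Scheme.Modules.pullback h).obj M] (Coh.structureModule Z') =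
      (h.residueDegree (genericPoint Z') : ℤ) * IntSym.sym k [M] (Coh.structureModule Z) ∧
    0 < h.residueDegree (genericPoint Z') := by
  haveI := CurveCohLib.isNoetherian_of_proper (k := k) (X := Z)
  haveI := CurveCohLib.isNoetherian_of_proper (k := k) (X := Z')
  obtain ⟨e, hI, -⟩ := IntSym.sym_pullback_curve k h hh hM (𝟙 Z') hd'
  refine ⟨?_, ?_⟩
  · haveI := hI
    obtain ⟨i⟩ := QCoh.push_structure_iso (𝟙 Z) (𝟙 Z' ≫ h).ker.subschemeι (by
      rw [Scheme.IdealSheafData.range_subschemeι, Scheme.Hom.support_ker]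
      simp [h.surjective.range_eq])
    have h1 := List.forall_mem_singleton.2 hM
    have h2 := List.forall_mem_singleton.2 (PicClLib.isInvertible_pullback h hM)
    rw [IntSym.sym_iso k h1 i, Category.id_comp] at e
    rw [IntSym.sym_iso k h2 ((Scheme.Modules.pushforwardId Z').app (Coh.structureModule Z')),
      IntSym.sym_iso k h1 ((Scheme.Modules.pushforwardId Z).app (Coh.structureModule Z))] at e
    exact e
  · letI := (h.residueFieldMap (genericPoint Z')).hom.toAlgebra
    haveI : Module.Finite (Z.residueField (h (genericPoint Z'))) (Z'.residueField (genericPoint Z')) :=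
      MorLib.GF.finite_residueFieldMap h (genericPoint Z')
    show 0 < Module.finrank (Z.residueField (h (genericPoint Z'))) (Z'.residueField (genericPoint Z'))
    exact Module.finrank_pos

variable {X : Scheme.{u}} [X.Over (Spec (CommRingCat.of k))]

/-- The test extends to integral curves. -/
theorem sym_nonneg {E : X.Modules} (hE : Nef k X E) {Z : Scheme.{u}} [Z.Over (Spec (CommRingCat.of k))]
    [IsProper (Z ↘ Spec (CommRingCat.of k))] [IsIntegral Z] (hZ : topologicalKrullDim Z = 1)
    (g : Z ⟶ X) (hg : g ≫ (X ↘ Spec (CommRingCat.of k)) = Z ↘ Spec (CommRingCat.of k))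
    {M : Z.Modules} (hM : PicF.IsInvertible M) (q : (Scheme.Modules.pullback g).obj E ⟶ M) [Epi q] :
    0 ≤ IntSym.sym k [M] (Coh.structureModule Z) := by
  obtain ⟨Z', _, _, _, h, _, hh, hd, hreg, _⟩ := exists_regular_curve k Z hZ
  have h0 := hE Z' hd hreg (h ≫ g) (by rw [Category.assoc, hg, hh]) _ (PicClLib.isInvertible_pullback h hM)
    (((Scheme.Modules.pullbackComp h g).app E).inv ≫ (Scheme.Modules.pullback h).map q) inferInstance
  rw [deg_eq_sym, (sym_finite_pullback k h hh hd hM).1] at h0
  exact nonneg_of_mul_nonneg_right h0 (by exact_mod_cast (sym_finite_pullback k h hh hd hM).2)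

/-- Nefness descends along surjections. -/
theorem nef_of_pullback {Y : Scheme.{u}} [IsProper (X ↘ Spec (CommRingCat.of k))]
    [Y.Over (Spec (CommRingCat.of k))] [IsProper (Y ↘ Spec (CommRingCat.of k))]
    (f : Y ⟶ X) (hf : f ≫ (X ↘ Spec (CommRingCat.of k)) = Y ↘ Spec (CommRingCat.of k)) [Surjective f]
    {E : X.Modules} (hE : Nef k Y ((Scheme.Modules.pullback f).obj E)) : Nef k X E := by
  intro C _ _ _ hC hreg g hg M hM q hq
  haveI := hq
  haveI := CurveCohLib.isNoetherian_of_proper (k := k) (X := C)
  haveI : IsProper f := LerayEuler.isProper_f k f hf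
  letI : (pullback g f).Over (Spec (CommRingCat.of k)) := ⟨pullback.fst g f ≫ (C ↘ Spec (CommRingCat.of k))⟩
  haveI : IsProper (pullback g f ↘ Spec (CommRingCat.of k)) :=
    show IsProper (pullback.fst g f ≫ (C ↘ Spec (CommRingCat.of k))) from inferInstance
  haveI : Surjective (pullback.fst g f) :=
    MorphismProperty.pullback_fst (P := @Surjective) _ _ inferInstance
  obtain ⟨Z, i, _, _, hZ, hpos, ⟨e⟩⟩ := IntSym.exists_curve_over k (pullback.fst g f) rfl (𝟙 C) hC
  obtain ⟨hsym, -, -⟩ := IntSym.sym_pullback_curve k (pullback.fst g f) rfl hM i hZ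
  letI : Z.Over (Spec (CommRingCat.of k)) := ⟨i ≫ (pullback g f ↘ Spec (CommRingCat.of k))⟩
  haveI : IsProper (Z ↘ Spec (CommRingCat.of k)) :=
    show IsProper (i ≫ (pullback g f ↘ Spec (CommRingCat.of k))) from inferInstance
  haveI := CurveCohLib.isNoetherian_of_proper (k := k) (X := Z)
  let iso : (Scheme.Modules.pullback (i ≫ pullback.snd g f)).obj ((Scheme.Modules.pullback f).obj E) ≅
      (Scheme.Modules.pullback (i ≫ pullback.fst g f)).obj ((Scheme.Modules.pullback g).obj E) :=
    (Scheme.Modules.pullbackComp _ f).app E ≪≫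
      (Scheme.Modules.pullbackCongr (show (i ≫ pullback.snd g f) ≫ f = (i ≫ pullback.fst g f) ≫ g by
        simp only [Category.assoc, pullback.condition])).app E ≪≫
      ((Scheme.Modules.pullbackComp _ g).app E).symm
  have h0 := sym_nonneg k hE hZ (i ≫ pullback.snd g f) (by
      show (i ≫ pullback.snd g f) ≫ (Y ↘ Spec (CommRingCat.of k)) = i ≫ pullback.fst g f ≫ (C ↘ Spec (CommRingCat.of k))
      rw [← hf, ← hg]
      simp only [Category.assoc, pullback.condition_assoc])
    (PicClLib.isInvertible_pullback (i ≫ pullback.fst g f) hM)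
    (iso.hom ≫ (Scheme.Modules.pullback (i ≫ pullback.fst g f)).map q)
  have e' : IntSym.sym k [(Scheme.Modules.pullback (i ≫ pullback.fst g f)).obj M] (Coh.structureModule Z) =
      IntSym.sym k [(Scheme.Modules.pullback (pullback.fst g f)).obj M] ((Coh.push i).obj (Coh.structureModule Z)) := by
    rw [← IntSym.sym_congr_head k ((Scheme.Modules.pullbackComp i (pullback.fst g f)).app M) (List.forall_mem_nil _)]
    exact NakaiMo.mult_push k i rfl (PicClLib.isInvertible_pullback _ hM) QCoh.isCoh_structureModule' 1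
  rw [e', hsym, IntSym.sym_iso k (List.forall_mem_singleton.2 hM) e,
    IntSym.sym_iso k (List.forall_mem_singleton.2 hM) ((Scheme.Modules.pushforwardId C).app (Coh.structureModule C))] at h0
  rw [deg_eq_sym]
  exact nonneg_of_mul_nonneg_right h0 (by exact_mod_cast hpos)

end Groth.Agent.NefTest
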